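import Cfsg.Agent.H514.DP.Cyc_m3
import Cfsg.Agent.H253.TwoComm.Cent
import Cfsg.Agent.H121.Chr
import Cfsg.Agent.H951.TCHeis
import Cfsg.Agent.FastGrp
import Cfsg.Agent.Prune
set_option linter.all false

section
prune_inst 0x7f00000000000000000000000000000000000000000000000000000000000000000000000000000000000000000000000000000000000000000000000000000000000000000000000000000000000000003fffffffffffffffffffffffffffbeffbdffffffff

-- part: H773/Pw/Spor
section
set_option linter.all false
open scoped Cfsg.Agent.FastGrp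

/-!
# Tools for single groups (S2454, helper773)

* `pe_two_of_normalizes` : an element `y` of prime order normalized, but not centralized, by a `p`-element `z` is a product
  of two `p`-elements;
* `pe_two_of_dvd` : the same from `p ∣ |N(⟨y⟩) : C(⟨y⟩)|`;
* `minDeg_of_pd`, `minDeg_of_prime`, `minDeg_of_norm`: `MinDeg` from the bounds `PD` of the S2494 library, from a prime
  dividing the order once (Feit), from the normalizer of a subgroup of prime order.
* `pw_of_elt`, `pw_of_norm` : the criterion K for a `p`-element, resp. an element of prime order with the trick.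
-/

set_option autoImplicit false

namespace Cfsg.Agent.H773.Pw

open Cfsg Subgroup Cfsg.Agent.H514.DP
open Cfsg.Agent.H51.Mult (PCE)

universe u v w

section Trick

variable {G : Type u} [Group G] {p : ℕ}

/-- a subgroup of prime order on which `z` acts non-trivially consists of commutators with `z`. -/
theorem pe_two_of_normalizes {y z : G} (hz : IsPE p z) (hy : (orderOf y).Prime)
    (hn : z * y * z⁻¹ ∈ zpowers y) (hc : z * y ≠ y * z) : PE p 2 y := by
  obtain ⟨i, hi⟩ := mem_zpowers_iff.1 hn
  have hnd : ¬ (orderOf y : ℤ) ∣ i - 1 := by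
    intro h
    apply hc
    have h1 : y ^ (i - 1) = 1 := (orderOf_dvd_iff_zpow_eq_one).1 h
    have h2 : y ^ i = y := by
      have : y ^ i = y ^ (i - 1) * y := by rw [← zpow_add_one]; congr 1; ring
      rw [this, h1, one_mul]
    rw [h2] at hi
    calc z * y = (z * y * z⁻¹) * z := by group
      _ = y * z := by rw [← hi]
  have hprime : Prime (orderOf y : ℤ) := Nat.prime_iff_prime_int.1 hy
  obtain ⟨a, b, hab⟩ := (Prime.coprime_iff_not_dvd hprime).2 hnd
  -- `a * l + b * (i - 1) = 1`
  have h3 : y ^ (b * (i - 1)) = y := by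
    have : b * (i - 1) = 1 + (orderOf y : ℤ) * (-a) := by linarith
    rw [this, zpow_add, zpow_one, zpow_mul, zpow_natCast, pow_orderOf_eq_one, one_zpow, mul_one]
  have h4 : z * y ^ b * z⁻¹ = y ^ (i * b) := by
    rw [zpow_mul, hi, conj_zpow]
  have h5 : z * (y ^ b * z⁻¹ * (y ^ b)⁻¹) = y := by
    calc z * (y ^ b * z⁻¹ * (y ^ b)⁻¹) = (z * y ^ b * z⁻¹) * (y ^ b)⁻¹ := by group
      _ = y ^ (i * b) * (y ^ b)⁻¹ := by rw [h4]
      _ = y ^ (b * (i - 1)) := by rw [← zpow_neg, ← zpow_add]; congr 1; ring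
      _ = y := h3
  have h6 := hz.pe.mul ((hz.inv.conj (y ^ b)).pe)
  rwa [h5] at h6

/-- the trick from the index of the centralizer in the normalizer. -/
theorem pe_two_of_dvd [Finite G] (hp : p.Prime) {y : G} (hy : (orderOf y).Prime)
    (h : p ∣ (centralizer (zpowers y : Set G)).relIndex (normalizer (zpowers y : Set G))) : PE p 2 y := by
  classical
  have : Fact p.Prime := ⟨hp⟩
  set N : Subgroup G := normalizer (zpowers y : Set G) with hN
  set C : Subgroup G := centralizer (zpowers y : Set G) with hC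
  by_contra hcon
  -- every `p`-element of `N` centralizes `y`
  have h1 : ∀ z ∈ N, IsPE p z → z ∈ C := by
    intro z hz hzp
    by_contra hzc
    apply hcon
    refine pe_two_of_normalizes hzp hy ((mem_normalizer_iff.1 hz y).1 (mem_zpowers y)) ?_
    intro hcomm
    apply hzc
    rw [hC, mem_centralizer_iff]
    intro w hw
    obtain ⟨k, rfl⟩ := mem_zpowers_iff.1 hw
    exact ((show Commute y z from hcomm.symm).zpow_left k)
  obtain ⟨P⟩ : Nonempty (Sylow p N) := inferInstance
  have h2 : (P : Subgroup N) ≤ C.subgroupOf N := by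
    intro z hz
    rw [mem_subgroupOf]
    refine h1 z z.2 ?_
    obtain ⟨k, hk⟩ := P.isPGroup' ⟨z, hz⟩
    refine ⟨k, ?_⟩
    have := congrArg (fun t : P => ((t : N) : G)) hk
    simpa using this
  have h3 : (C.subgroupOf N).index ∣ (P : Subgroup N).index := Subgroup.index_dvd_of_le h2
  exact P.not_dvd_index (h.trans h3)

end Trick

section Deg

theorem pce_id {K : Type v} [Group K] (hperf : commutator K = ⊤) : PCE (MonoidHom.id K) :=
  ⟨fun x => ⟨x, rfl⟩, by
    intro x hx
    have : x = 1 := hx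
    rw [this]
    exact one_mem _, hperf⟩

theorem not_dvd_ker_id {K : Type v} [Group K] {p : ℕ} (hp : p.Prime) : ¬ p ∣ Nat.card (MonoidHom.id K).ker := by
  have h : (MonoidHom.id K).ker = ⊥ := by
    rw [eq_bot_iff]
    intro x hx
    exact hx
  rw [h, Subgroup.card_bot]
  intro h1
  exact hp.one_lt.ne' (Nat.dvd_one.1 h1)

/-- from the degree bounds of the S2494 library (over the group itself) -/
theorem minDeg_of_pd {K : Type v} [Group K] [Finite K] (hperf : commutator K = ⊤) {D : ℕ} (h : H253.TC.PD K D) :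
    MinDeg K D := by
  intro k ρ hρ hk
  have := h.any (pce_id hperf) ρ (Cfsg.Agent.H121.Chr.exists_ne_one ρ hρ hk)
  simpa using this

variable {K : Type v} [Group K] [IsSimpleGroup K]

theorem perf_of_simple (hna : ¬ ∀ a b : K, a * b = b * a) : commutator K = ⊤ := by
  rcases (inferInstance : (commutator K).Normal).eq_bot_or_eq_top with h | h
  · exfalso
    apply hna
    intro a b
    have h1 : a * b * a⁻¹ * b⁻¹ ∈ commutator K := by
      rw [_root_.commutator_def]
      exact Subgroup.commutator_mem_commutator (mem_top a) (mem_top b)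
    rw [h, mem_bot] at h1
    calc a * b = (a * b * a⁻¹ * b⁻¹) * (b * a) := by group
      _ = b * a := by rw [h1, one_mul]
  · exact h

/-- `l` divides `|K|` exactly once: degrees `≥ (l + 1) / 2`. -/
theorem minDeg_of_prime {n : ℕ} (hn : Nat.card K = n) (h0 : n ≠ 0) {l : ℕ} (hl : l.Prime) (hl2 : l ≠ 2) (h1 : l ∣ n)
    (h2 : ¬ l ^ 2 ∣ n) (h3 : n ≠ l) (h4 : 2 * n ≠ l * (l ^ 2 - 1)) {D : ℕ} (hD : 2 * D ≤ l + 1) : MinDeg K D := by
  have hfin : Finite K := Nat.finite_of_card_ne_zero (hn.symm ▸ h0)
  have hna := H253.TC.not_comm_of_card hn h0 hl h1 h3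
  intro k ρ hρ hk
  have := H253.TC.deg_of_prime hna (pce_id (perf_of_simple hna)) hl (not_dvd_ker_id hl) (hn.symm ▸ h1) (hn.symm ▸ h2)
    (H253.TC.not_psl hn hl hl2 h4) ρ (Cfsg.Agent.H121.Chr.exists_ne_one ρ hρ hk)
  omega

/-- an element `x` of prime order `l` conjugate to the powers `x ^ j`, `j ∈ J`: degrees `≥ |J|`. -/
theorem minDeg_of_pow [Finite K] (hna : ¬ ∀ a b : K, a * b = b * a) {l : ℕ} (hl : l.Prime) {x : K} (hx : orderOf x = l)
    (J : Finset ℕ) (hJ : ∀ j ∈ J, 0 < j ∧ j < l) (hconj : ∀ j ∈ J, IsConj x (x ^ j)) : MinDeg K J.card := by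
  intro k ρ hρ hk
  exact H253.TC.deg_of_pow (pce_id (perf_of_simple hna)) hl (not_dvd_ker_id hl) ρ
    (Cfsg.Agent.H121.Chr.exists_ne_one ρ hρ hk) hx J hJ hconj

/-- `e * |C(⟨x⟩)| ≤ |N(⟨x⟩)|`: degrees `≥ e`. -/
theorem minDeg_of_norm [Finite K] (hna : ¬ ∀ a b : K, a * b = b * a) {l : ℕ} (hl : l.Prime) {x : K}
    (hx : orderOf x = l) {e : ℕ}
    (he : e * Nat.card (centralizer (zpowers x : Set K)) ≤ Nat.card (normalizer (zpowers x : Set K))) : MinDeg K e := by
  obtain ⟨J, h1, h2, h3⟩ := H253.TC.exists_conj_powers hl hx he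
  intro k ρ hρ hk
  exact h3.trans (minDeg_of_pow hna hl hx J h1 h2 k ρ hρ hk)

/-- a `l`-subgroup with all nontrivial elements conjugate: degrees `≥ |B| - 1`. -/
theorem minDeg_of_fused [Finite K] (hna : ¬ ∀ a b : K, a * b = b * a) {l : ℕ} (hl : l.Prime) (B : Subgroup K)
    (hB : IsPGroup l B) (hconj : ∀ a ∈ B, a ≠ 1 → ∀ b ∈ B, b ≠ 1 → IsConj a b) {D : ℕ} (hD : D + 1 ≤ Nat.card B) :
    MinDeg K D := by
  intro k ρ hρ hk
  have := H253.TC.deg_fused (pce_id (perf_of_simple hna)) hl (not_dvd_ker_id hl) ρ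
    (Cfsg.Agent.H121.Chr.exists_ne_one ρ hρ hk) B hB hconj
  omega

end Deg

section Crit

variable {K : Type v} [Group K] [Finite K] [IsSimpleGroup K]

/-- the criterion for an element with a bound of the centralizer. -/
theorem pw_of_pe (hna : ¬ ∀ a b : K, a * b = b * a) {p m D k c N : ℕ} {y : K} (hy : PE p m y) (hD : MinDeg K D)
    (hc : Nat.card (centralizer ({y} : Set K)) ≤ c) (hk : 3 ≤ k) (hC : (c - 1) ^ k < D ^ (2 * k - 4))
    (hN : m * k ≤ N) : PW p N K :=
  (PW.of_pe (perf_of_simple hna) hy hD hk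
    (lt_of_le_of_lt (Nat.pow_le_pow_left (Nat.sub_le_sub_right hc 1) k) hC)).mono hN

omit [IsSimpleGroup K] in
theorem exists_order {l : ℕ} (hl : l.Prime) (hd : l ∣ Nat.card K) : ∃ y : K, orderOf y = l := by
  have := Fact.mk hl
  exact exists_prime_orderOf_dvd_card' l hd

/-- for the prime `l` itself. -/
theorem pw_of_order (hna : ¬ ∀ a b : K, a * b = b * a) {l D k c : ℕ} (hl : l.Prime) (hd : l ∣ Nat.card K)
    (hD : MinDeg K D) (hc : ∀ y : K, orderOf y = l → Nat.card (centralizer ({y} : Set K)) ≤ c)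
    (hk : 3 ≤ k) (hC : (c - 1) ^ k < D ^ (2 * k - 4)) (hN : k ≤ 70) : PW l 70 K := by
  obtain ⟨y, hy⟩ := exists_order hl hd
  exact pw_of_pe hna (IsPE.of_prime hy).pe hD (hc y hy) hk hC (by omega)

/-- for a prime `p` dividing `|N(⟨y⟩) : C(⟨y⟩)|`, `y` of prime order `l`. -/
theorem pw_of_norm (hna : ¬ ∀ a b : K, a * b = b * a) {p l D k c : ℕ} (hp : p.Prime) (hl : l.Prime) {y : K}
    (hy : orderOf y = l)
    (hd : p ∣ (centralizer (zpowers y : Set K)).relIndex (normalizer (zpowers y : Set K)))
    (hD : MinDeg K D) (hc : Nat.card (centralizer ({y} : Set K)) ≤ c)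
    (hk : 3 ≤ k) (hC : (c - 1) ^ k < D ^ (2 * k - 4)) (hN : 2 * k ≤ 70) : PW p 70 K :=
  pw_of_pe hna (pe_two_of_dvd hp (hy.symm ▸ hl) hd) hD hc hk hC hN

end Crit

end Cfsg.Agent.H773.Pw
end

-- part: H773/Pw/Extra
section
set_option linter.all false
open scoped Cfsg.Agent.FastGrp

/-!
# Degrees from Heisenberg-like configurations (S2454, helper773)

* `minDeg_of_extra` : `z` of prime order `l`, conjugate to `z ^ j` for `j ∈ J`, and `m` pairs `(a i, b i)` of elements
  commuting with `z`, with `a i * b i = z * b i * a i`, different pairs commuting: every nontrivial irreducible representation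
  has degree at least `|J| * l ^ m`.
* `minDeg_of_nonabelian` : a nonabelian subgroup of order `l ^ 3`: degree at least `|J| * l` (`J` = exponents of conjugate
  powers of a generator of its centre).
-/

set_option autoImplicit false

namespace Cfsg.Agent.H773.Pw

open Cfsg Subgroup Cfsg.Agent.H514.DP Module

universe u v w

theorem sum_finrank_le {V : Type u} [AddCommGroup V] [Module ℂ V] [FiniteDimensional ℂ V] {ι : Type*} [Fintype ι]
    [DecidableEq ι] (p : ι → Submodule ℂ V) (h : iSupIndep p) : ∑ i, finrank ℂ (p i) ≤ finrank ℂ V := by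
  have := LinearMap.finrank_le_finrank_of_injective h.dfinsupp_lsum_injective
  rwa [show finrank ℂ (Π₀ i, p i) = ∑ i, finrank ℂ (p i) from finrank_directSum ℂ fun i => p i] at this

/-- distinct eigenvalues -/
theorem sum_eigen {V : Type u} [AddCommGroup V] [Module ℂ V] [FiniteDimensional ℂ V] {ι : Type*} [Fintype ι]
    (f : End ℂ V) (μ : ι → ℂ) (hμ : Function.Injective μ) {N : ℕ} (h : ∀ i, N ≤ finrank ℂ (f.eigenspace (μ i))) :
    Fintype.card ι * N ≤ finrank ℂ V := by
  classical
  have h1 : iSupIndep fun i => f.eigenspace (μ i) := (End.eigenspaces_iSupIndep f).comp hμ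
  have h2 := sum_finrank_le _ h1
  refine le_trans ?_ h2
  calc Fintype.card ι * N = ∑ _i : ι, N := by rw [Finset.sum_const, Finset.card_univ, smul_eq_mul]
    _ ≤ _ := Finset.sum_le_sum fun i _ => h i

theorem heis_dim {l : ℕ} {ζ : ℂ} (hζ : IsPrimitiveRoot ζ l) (m : ℕ) :
    ∀ (V : Type u) [AddCommGroup V] [Module ℂ V] [FiniteDimensional ℂ V] [Nontrivial V] (A B : Fin m → (V →ₗ[ℂ] V)),
      (∀ i, Function.Injective (A i)) → (∀ i, Function.Injective (B i)) →
      (∀ i v, A i (B i v) = ζ • B i (A i v)) → (∀ i j, i ≠ j → ∀ v, A i (B j v) = B j (A i v)) →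
      (∀ i j, ∀ v, A i (A j v) = A j (A i v)) → (∀ i j, ∀ v, B i (B j v) = B j (B i v)) →
      l ^ m ≤ finrank ℂ V := by
  induction m with
  | zero =>
    intro V _ _ _ _ A B _ _ _ _ _ _
    rw [pow_zero]
    exact finrank_pos
  | succ m ih =>
    intro V _ _ _ _ A B hA hB hAB hABij hAA hBB
    obtain ⟨α, hα⟩ := End.exists_eigenvalue (A (Fin.last m) : End ℂ V)
    have hα0 : α ≠ 0 := by
      rintro rfl
      obtain ⟨v, hv, hv0⟩ := hα.exists_hasEigenvector
      rw [End.mem_eigenspace_iff, zero_smul] at hv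
      exact hv0 (hA _ (by rw [hv, map_zero]))
    have hl0 : l ≠ 0 ∨ l = 0 := by tauto
    set f : End ℂ V := A (Fin.last m) with hf
    -- the eigenspaces
    have hdim : ∀ t : ℕ, l ^ m ≤ finrank ℂ (f.eigenspace (ζ ^ t * α)) := by
      intro t
      induction t with
      | zero =>
        rw [pow_zero, one_mul]
        set W := f.eigenspace α with hW
        have hWn : Nontrivial W := by
          rw [Submodule.nontrivial_iff_ne_bot]
          exact hα
        have key : ∀ g : V →ₗ[ℂ] V, (∀ v, f (g v) = g (f v)) → ∀ w ∈ W, g w ∈ W := by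
          intro g hg w hw
          rw [hW, End.mem_eigenspace_iff] at hw ⊢
          rw [hg, hw, map_smul]
        refine ih W (fun i => (A i.castSucc).restrict (key _ fun v => hAA _ _ v))
          (fun i => (B i.castSucc).restrict (key _ fun v => hABij _ _ (Fin.castSucc_lt_last i).ne' v)) ?_ ?_ ?_ ?_ ?_ ?_
        · intro i x y h
          exact Subtype.ext (hA _ (congrArg Subtype.val h))
        · intro i x y h
          exact Subtype.ext (hB _ (congrArg Subtype.val h))
        · intro i v
          exact Subtype.ext (hAB _ _)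
        · intro i j hij v
          exact Subtype.ext (hABij _ _ (fun h => hij (Fin.castSucc_injective _ h)) _)
        · intro i j v
          exact Subtype.ext (hAA _ _ _)
        · intro i j v
          exact Subtype.ext (hBB _ _ _)
      | succ t iht =>
        refine iht.trans ?_
        have key : ∀ w ∈ f.eigenspace (ζ ^ t * α), B (Fin.last m) w ∈ f.eigenspace (ζ ^ (t + 1) * α) := by
          intro w hw
          rw [End.mem_eigenspace_iff] at hw ⊢
          rw [hf, hAB, ← hf, hw, map_smul, smul_smul, pow_succ]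
          congr 1
          ring
        refine LinearMap.finrank_le_finrank_of_injective (f := (B (Fin.last m)).restrict key) ?_
        intro x y h
        exact Subtype.ext (hB _ (congrArg Subtype.val h))
    have h1 := sum_eigen (ι := Fin l) f (fun t => ζ ^ (t : ℕ) * α) (fun s t h => Fin.ext
      (hζ.pow_inj s.2 t.2 (mul_right_cancel₀ hα0 h))) (N := l ^ m) fun t => hdim t
    rw [Fintype.card_fin] at h1
    rw [pow_succ, mul_comm]
    exact h1

/-- **Degrees from an extraspecial configuration.** -/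
theorem minDeg_of_extra {K : Type v} [Group K] [IsSimpleGroup K] [Finite K] {l m : ℕ} (hl : l.Prime) {z : K}
    (hz : orderOf z = l) (J : Finset ℕ) (hJ : ∀ j ∈ J, 0 < j ∧ j < l) (hconj : ∀ j ∈ J, IsConj z (z ^ j))
    (a b : Fin m → K) (hab : ∀ i, a i * b i = z * (b i * a i)) (haz : ∀ i, Commute (a i) z) (hbz : ∀ i, Commute (b i) z)
    (habij : ∀ i j, i ≠ j → Commute (a i) (b j)) (haa : ∀ i j, Commute (a i) (a j)) (hbb : ∀ i j, Commute (b i) (b j)) :
    MinDeg K (J.card * l ^ m) := by
  classical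
  intro k ρ hρ hk
  have hρ1 := Cfsg.Agent.H121.Chr.exists_ne_one ρ hρ hk
  -- faithful
  have hinj : ∀ g : K, ρ g = 1 → g = 1 := by
    have hN : (ρ : K →* _).ker.Normal := inferInstance
    rcases hN.eq_bot_or_eq_top with h | h
    · intro g hg
      have : g ∈ (ρ : K →* _).ker := hg
      rwa [h, mem_bot] at this
    · exfalso
      obtain ⟨g, hg⟩ := hρ1
      apply hg
      have : g ∈ (ρ : K →* _).ker := by rw [h]; trivial
      exact this
  have hz1 : z ≠ 1 := by
    rintro rfl
    rw [orderOf_one] at hz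
    exact hl.one_lt.ne hz
  set f : End ℂ (Fin k → ℂ) := ρ z with hf
  have hfl : f ^ l = 1 := by rw [hf, ← map_pow, ← hz, pow_orderOf_eq_one, map_one]
  have hmul : ∀ g h : K, ∀ v, ρ (g * h) v = ρ g (ρ h v) := fun g h v => by rw [map_mul]; rfl
  have hgi : ∀ g : K, Function.Injective (ρ g) := by
    intro g x y h
    have h1 : ρ g⁻¹ (ρ g x) = ρ g⁻¹ (ρ g y) := by rw [h]
    rw [← hmul, ← hmul, inv_mul_cancel, map_one] at h1
    exact h1
  -- an eigenvalue different from one
  obtain ⟨ζ, w, hw0, hζw, hζ1⟩ : ∃ (ζ : ℂ) (w : Fin k → ℂ), w ≠ 0 ∧ f w = ζ • w ∧ ζ ≠ 1 := by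
    let _ : CommGroup (zpowers z) :=
      { (inferInstance : Group (zpowers z)) with
        mul_comm := fun x y => by
          obtain ⟨i, hi⟩ := mem_zpowers_iff.1 x.2
          obtain ⟨j, hj⟩ := mem_zpowers_iff.1 y.2
          apply Subtype.ext
          show (x : K) * y = y * x
          rw [← hi, ← hj, ← zpow_add, ← zpow_add, add_comm] }
    let σ : Multiplicative (Additive (zpowers z)) →* End ℂ (Fin k → ℂ) :=
      { toFun := fun x => ρ ((Additive.toMul (Multiplicative.toAdd x) : zpowers z) : K)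
        map_one' := map_one ρ
        map_mul' := fun x y => map_mul ρ _ _ }
    obtain ⟨χ, v, hv0, hv, hχ⟩ := Cfsg.Agent.H951.TCHeis.exists_eig (A := Additive (zpowers z)) σ
      (Additive.ofMul ⟨z, mem_zpowers z⟩) (fun h => hz1 (hinj z h))
    exact ⟨_, v, hv0, hv (Additive.ofMul ⟨z, mem_zpowers z⟩), hχ⟩
  have hζl : ζ ^ l = 1 := by
    have h1 : ∀ n : ℕ, (f ^ n) w = ζ ^ n • w := by
      intro n
      induction n with
      | zero => simp
      | succ n ih => rw [pow_succ', Module.End.mul_apply, ih, map_smul, hζw, smul_smul, pow_succ]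
    have h2 := h1 l
    rw [hfl, Module.End.one_apply] at h2
    have h3 : (ζ ^ l - 1) • w = 0 := by rw [sub_smul, one_smul, ← h2, sub_self]
    exact sub_eq_zero.1 ((smul_eq_zero.1 h3).resolve_right hw0)
  have hprim : IsPrimitiveRoot ζ l := by
    have : Fact l.Prime := ⟨hl⟩
    have h1 : orderOf ζ = l := orderOf_eq_prime hζl hζ1
    rw [← h1]
    exact IsPrimitiveRoot.orderOf ζ
  -- the eigenspace
  set W := f.eigenspace ζ with hW
  have hWn : Nontrivial W := by
    rw [Submodule.nontrivial_iff_ne_bot]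
    intro h
    apply hw0
    have h1 : w ∈ W := by rw [hW, End.mem_eigenspace_iff, hζw]
    rw [h, Submodule.mem_bot] at h1
    exact h1
  have key : ∀ g : K, Commute g z → ∀ v ∈ W, ρ g v ∈ W := by
    intro g hg v hv
    rw [hW, End.mem_eigenspace_iff] at hv ⊢
    rw [hf, ← hmul, ← hg.eq, hmul, ← hf, hv, map_smul]
  have hWdim : l ^ m ≤ finrank ℂ W := by
    refine heis_dim hprim m W (fun i => (ρ (a i)).restrict (key _ (haz i))) (fun i => (ρ (b i)).restrict (key _ (hbz i)))
      ?_ ?_ ?_ ?_ ?_ ?_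
    · intro i x y h
      exact Subtype.ext (hgi _ (congrArg Subtype.val h))
    · intro i x y h
      exact Subtype.ext (hgi _ (congrArg Subtype.val h))
    · intro i v
      apply Subtype.ext
      show ρ (a i) (ρ (b i) v) = ζ • ρ (b i) (ρ (a i) v)
      rw [← hmul, hab, hmul, ← hf, hmul]
      exact End.mem_eigenspace_iff.1 (key _ (hbz i) _ (key _ (haz i) _ v.2))
    · intro i j hij v
      apply Subtype.ext
      show ρ (a i) (ρ (b j) v) = ρ (b j) (ρ (a i) v)
      rw [← hmul, (habij i j hij).eq, hmul]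
    · intro i j v
      apply Subtype.ext
      show ρ (a i) (ρ (a j) v) = ρ (a j) (ρ (a i) v)
      rw [← hmul, (haa i j).eq, hmul]
    · intro i j v
      apply Subtype.ext
      show ρ (b i) (ρ (b j) v) = ρ (b j) (ρ (b i) v)
      rw [← hmul, (hbb i j).eq, hmul]
  have h1 := sum_eigen (ι := J) f (fun j => ζ ^ (j : ℕ)) (fun i j h => Subtype.ext
    (hprim.pow_inj (hJ i i.2).2 (hJ j j.2).2 h)) (N := l ^ m) fun j => by
      refine hWdim.trans ?_
      obtain ⟨h, hh⟩ := isConj_iff.1 (hconj j j.2)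
      have key2 : ∀ v ∈ W, ρ h⁻¹ v ∈ f.eigenspace (ζ ^ (j : ℕ)) := by
        intro v hv
        rw [hW, End.mem_eigenspace_iff] at hv
        rw [End.mem_eigenspace_iff, hf, ← hmul, show z * h⁻¹ = h⁻¹ * z ^ (j : ℕ) by rw [← hh]; group, hmul, map_pow,
          ← hf]
        have h2 : ∀ n : ℕ, (f ^ n) v = ζ ^ n • v := by
          intro n
          induction n with
          | zero => simp
          | succ n ih => rw [pow_succ', Module.End.mul_apply, ih, map_smul, hv, smul_smul, pow_succ]
        rw [h2, map_smul]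
      refine LinearMap.finrank_le_finrank_of_injective (f := (ρ h⁻¹).restrict key2) ?_
      intro x y hxy
      exact Subtype.ext (hgi _ (congrArg Subtype.val hxy))
  rwa [Fintype.card_coe, finrank_fin_fun] at h1

end Cfsg.Agent.H773.Pw
end
end
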